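import Cfsg.Agent.H383.Kap.Bound

/-!
# S5731, the affine core: products of simple groups not of Lie type in the characteristic (helper383, AF4)

`kap_prod`.
-/

set_option autoImplicit false

open scoped commutatorElement

namespace Cfsg.Agent.H383.Kap

open Subgroup Cfsg.Agent.H192.Af Cfsg.Agent.H717.FieldOf

universe u v

section mod

variable {V : Type u} [AddCommGroup V] {G : Type v} [Group G] [DistribMulAction G V]

/-- the action of `L` on an invariant subgroup -/
@[reducible] def restr {L : Subgroup G} {X : AddSubgroup V} (h : Inv L X) : DistribMulAction L X where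
  smul l x := ⟨(l : G) • (x : V), h l l.2 x x.2⟩
  one_smul x := Subtype.ext (one_smul G (x : V))
  mul_smul a b x := Subtype.ext (mul_smul (a : G) (b : G) (x : V))
  smul_zero l := Subtype.ext (smul_zero (l : G))
  smul_add l x y := Subtype.ext (smul_add (l : G) (x : V) (y : V))

/-- common fixed vectors of commuting elements -/
theorem exists_vec {s : ℕ} (L : Fin s → Subgroup G)
    (hcomm : ∀ i j, i ≠ j → ∀ a ∈ L i, ∀ b ∈ L j, a * b = b * a) (y : Fin s → G) (hy : ∀ i, y i ∈ L i)
    (hfix : ∀ i, ∀ X : AddSubgroup V, Inv (L i) X → X ≠ ⊥ → ∃ x ∈ X, x ≠ 0 ∧ y i • x = x)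
    {U : AddSubgroup V} (hU : ∀ i, Inv (L i) U) (hne : U ≠ ⊥) : ∃ w ∈ U, w ≠ 0 ∧ ∀ i, y i • w = w := by
  classical
  let F : Finset (Fin s) → AddSubgroup V := fun A =>
    { carrier := {w | w ∈ U ∧ ∀ i ∈ A, y i • w = w}
      zero_mem' := ⟨U.zero_mem, fun i _ => smul_zero _⟩
      add_mem' := by
        rintro a b ⟨ha, ha'⟩ ⟨hb, hb'⟩
        exact ⟨U.add_mem ha hb, fun i hi => by rw [smul_add, ha' i hi, hb' i hi]⟩
      neg_mem' := by
        rintro a ⟨ha, ha'⟩
        exact ⟨U.neg_mem ha, fun i hi => by rw [smul_neg, ha' i hi]⟩ }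
  have hF : ∀ A, F A ≠ ⊥ := by
    intro A
    induction A using Finset.induction_on with
    | empty =>
      intro h
      apply hne
      rw [eq_bot_iff, ← h]
      intro w hw
      exact ⟨hw, fun i hi => absurd hi (Finset.notMem_empty i)⟩
    | insert j A hj ih =>
      obtain ⟨x, ⟨hxU, hxA⟩, hx0, hxy⟩ := hfix j (F A) (by
        rintro l hl w ⟨hw, hw'⟩
        refine ⟨hU j l hl w hw, fun i hi => ?_⟩
        have hij : i ≠ j := fun h => hj (by rw [← h]; exact hi)
        rw [smul_smul, hcomm i j hij _ (hy i) l hl, mul_smul, hw' i hi]) ih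
      intro h
      apply hx0
      have h1 : x ∈ F (insert j A) := by
        refine ⟨hxU, fun i hi => ?_⟩
        rcases Finset.mem_insert.1 hi with rfl | hi
        · exact hxy
        · exact hxA i hi
      rw [h] at h1
      exact h1
  obtain ⟨w, hw, hw0⟩ : ∃ w ∈ F Finset.univ, w ≠ 0 := by
    by_contra hcon
    push Not at hcon
    exact hF Finset.univ ((AddSubgroup.eq_bot_iff_forall _).2 hcon)
  exact ⟨w, hw.1, hw0, fun i => hw.2 i (Finset.mem_univ i)⟩

end mod

section

variable {V : Type u} [AddCommGroup V] [Finite V] {H : Type v} [Group H] [DistribMulAction H V] [FaithfulSMul H V]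

/-- nontrivial modules of the factors -/
theorem exists_module [Nontrivial V] {M : Subgroup H} (hM : Homog V M) (hG : commutator M = ⊤) {T : Type v} [Group T]
    [Nontrivial T] (hT : commutator T = ⊤) {s : ℕ} {π : M →* (Fin s → T)} (hπ : Function.Surjective π)
    (hk : π.ker = center M) (i : Fin s) :
    ∃ X : AddSubgroup V, Inv (Li π i) X ∧ X ≠ ⊥ ∧ (∃ l ∈ Li π i, ∃ x ∈ X, l • x ≠ x) ∧
      Nat.card X ^ 2 ^ (s - 1) ≤ Nat.card V := by
  classical
  have htop : (⊤ : AddSubgroup V) ≠ ⊥ := by
    obtain ⟨x, hx⟩ := exists_ne (0 : V)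
    intro h
    have h1 : x ∈ (⊤ : AddSubgroup V) := AddSubgroup.mem_top x
    rw [h] at h1
    exact hx h1
  obtain ⟨W, -, hW⟩ := exists_irr (V := V) (⊤ : Subgroup M) htop (fun _ _ _ _ => AddSubgroup.mem_top _)
  have hWi : ∀ h ∈ M, ∀ w ∈ W, h • w ∈ W := fun h hh w hw => hW.inv ⟨h, hh⟩ (mem_top _) w hw
  have hWm : ∀ U : AddSubgroup V, U ≤ W → (∀ h ∈ M, ∀ w ∈ U, h • w ∈ U) → U ≠ ⊥ → U = W :=
    fun U hU hinv hne => hW.min U hU (fun h _ w hw => hinv h h.2 w hw) hne
  have hnt : ∀ j, ∃ l ∈ Li π j, ∃ w ∈ W, l • w ≠ w := by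
    intro j
    by_contra hcon
    push Not at hcon
    obtain ⟨t, ht⟩ := exists_ne (1 : T)
    obtain ⟨g, hg, hgt⟩ := exists_Li hπ hT j t
    have h1 : (g : H) = 1 := by
      apply FaithfulSMul.eq_of_smul_eq_smul (α := V)
      intro x
      rw [one_smul]
      exact trivial_of_homog hM hW.ne hWi hWm g.2 (fun w hw => hcon g hg w hw) x
    have h2 : g = 1 := Subtype.ext h1
    rw [h2, map_one] at hgt
    apply ht
    have h3 := congrFun hgt j
    rw [Pi.mulSingle_eq_same] at h3
    exact h3.symm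
  have hsup : Li π i ⊔ ⨆ j ∈ Finset.univ.erase i, Li π j = ⊤ := by
    rw [eq_top_iff, ← iSup_Li hπ hk hG hT]
    refine iSup_le fun j => ?_
    by_cases hj : j = i
    · rw [hj]
      exact le_sup_left
    · refine le_trans ?_ le_sup_right
      exact le_iSup₂ (f := fun j (_ : j ∈ Finset.univ.erase i) => Li π j) j
        (Finset.mem_erase.2 ⟨hj, Finset.mem_univ j⟩)
  obtain ⟨X, -, hX, hXn, hc⟩ := chain (V := V) (Li π)
    (fun a b hab x hx y hy => Li_comm hk hab hx (Li_le π b hy)) (Li_eq hπ hk hT) i (Finset.univ.erase i)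
    (Finset.notMem_erase i _) W (by rw [hsup]; exact hW) (fun j _ => hnt j)
  refine ⟨X, hX.inv, hX.ne, hXn, ?_⟩
  rw [Finset.card_erase_of_mem (Finset.mem_univ i), Finset.card_univ, Fintype.card_fin] at hc
  refine hc.trans ?_
  exact Nat.card_le_card_of_injective (fun w : W => (w : V)) Subtype.val_injective

end

theorem two_le_card {V : Type u} [AddCommGroup V] [Finite V] {X : AddSubgroup V} (h : X ≠ ⊥) : 2 ≤ Nat.card X := by
  have h1 : Nat.card X ≠ 1 := fun h1 => h (AddSubgroup.card_eq_one.1 h1)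
  have h2 : 0 < Nat.card X := Nat.card_pos
  omega

theorem commutator_eq_top {T : Type v} [Group T] [IsSimpleGroup T] (hT : ¬ IsMulCommutative T) :
    commutator T = ⊤ := by
  rcases (inferInstance : (commutator T).Normal).eq_bot_or_eq_top with h | h
  · exfalso
    apply hT
    refine ⟨⟨fun a b => ?_⟩⟩
    have h1 : ⁅a, b⁆ ∈ commutator T := Subgroup.commutator_mem_commutator (Subgroup.mem_top _) (Subgroup.mem_top _)
    rw [h, Subgroup.mem_bot, commutatorElement_eq_one_iff_mul_comm] at h1
    exact h1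
  · exact h

/-- **products of simple groups not of Lie type in characteristic `p` (or small)** -/
theorem kap_prod {LP : ∀ (_ : ℕ) (T : Type v) [Group T], Prop} (hS : SmallCase.{u, v} LP) (k : ℕ) :
    ∀ K' : ℕ, ∃ N : ℕ, ∀ (p : ℕ) (V : Type u) [AddCommGroup V] [Finite V] (H : Type v) [Group H]
    [Finite H] [DistribMulAction H V] [FaithfulSMul H V] (M : Subgroup H) [M.Normal] (T : Type v) [Group T]
    [Finite T] [IsSimpleGroup T] (s : ℕ), p.Prime →
    (∀ w : V, p • w = 0) → (∀ K : Subgroup H, K.Normal → Homog V K) → N ≤ Nat.card V →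
    commutator M = ⊤ → 0 < s → Nonempty (M ⧸ Subgroup.center M ≃* (Fin s → T)) → ¬ IsMulCommutative T →
    (¬ LP p T ∨ Nat.card T ≤ K') →
    ∃ y ∈ M, FixAll V M y ∧ kap M y ^ k ≤ Nat.card V := by
  classical
  intro K'
  obtain ⟨K, hK⟩ := hS (2 * k)
  set B : ℕ := max K K' with hB
  obtain ⟨N1, hN1⟩ := exists_num (2 * k) (B ^ B)
  refine ⟨max N1 2, ?_⟩
  intro p V _ _ H _ _ _ _ M _ T _ _ _ s hp hpV hH hN hG hs he hTna hcase
  obtain ⟨e⟩ := he
  have hV : Nontrivial V := by
    rw [← Finite.one_lt_card_iff_nontrivial]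
    exact lt_of_lt_of_le (by norm_num) ((le_max_right N1 2).trans hN)
  have hMh : Homog V M := hH M inferInstance
  have hT : commutator T = ⊤ := commutator_eq_top hTna
  set π : M →* (Fin s → T) := e.toMonoidHom.comp (QuotientGroup.mk' (center M)) with hπdef
  have hπ : Function.Surjective π := e.surjective.comp (QuotientGroup.mk'_surjective _)
  have hk : π.ker = center M := by
    ext g
    rw [MonoidHom.mem_ker]
    change e (g : M ⧸ center M) = 1 ↔ g ∈ center M
    rw [MulEquiv.map_eq_one_iff, QuotientGroup.eq_one_iff]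
  have hπe : ∀ g : M, e (g : M ⧸ center M) = π g := fun _ => rfl
  choose X hXi hXne hXn hXc using fun i => exists_module hMh hG hT hπ hk i
  set n := Nat.card V with hn
  have hn2 : 2 ^ 2 ^ (s - 1) ≤ n := (Nat.pow_le_pow_left (two_le_card (hXne ⟨0, hs⟩)) _).trans (hXc ⟨0, hs⟩)
  have hnum := hN1 s n hs ((le_max_left N1 2).trans hN) hn2
  have hn0 : 0 < n := lt_of_lt_of_le (by positivity) hn2
  by_cases hsmall : Nat.card T ≤ B
  · -- `T` bounded: `y = 1`
    refine ⟨1, M.one_mem, ?_, ?_⟩
    · intro U hU _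
      obtain ⟨w, hw, hw0⟩ : ∃ w ∈ U, w ≠ 0 := by
        by_contra hcon
        push Not at hcon
        exact hU ((AddSubgroup.eq_bot_iff_forall U).2 hcon)
      exact ⟨w, hw, hw0, one_smul H w⟩
    · have hB1 : 1 ≤ B := (Nat.card_pos (α := T)).trans_le hsmall
      have h1 := kap_le (M := M) M.one_mem hG e
      have h2 := card_fix_le hTna (e ((⟨1, M.one_mem⟩ : M) : M ⧸ center M))
      have h3 : ∀ t : T, Nat.card {a : MulAut T // a t = t} ≤ B ^ B := by
        intro t
        have h4 : Nat.card {a : MulAut T // a t = t} ≤ Nat.card (T → T) :=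
          Nat.card_le_card_of_injective (fun a : {a : MulAut T // a t = t} => (a.1 : T → T))
            (fun a b hab => Subtype.ext (DFunLike.coe_injective hab))
        refine h4.trans ?_
        rw [Nat.card_fun]
        exact (Nat.pow_le_pow_left hsmall _).trans (Nat.pow_le_pow_right hB1 hsmall)
      have h4 : ∏ i, Nat.card {a : MulAut T // a (e ((⟨1, M.one_mem⟩ : M) : M ⧸ center M) i) =
          e ((⟨1, M.one_mem⟩ : M) : M ⧸ center M) i} ≤ (B ^ B) ^ s := by
        refine (Finset.prod_le_prod' fun i _ => h3 _).trans ?_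
        rw [Finset.prod_const, Finset.card_univ, Fintype.card_fin]
      have h5 : kap M 1 ≤ s.factorial * (B ^ B) ^ s := h1.trans (h2.trans (Nat.mul_le_mul_left _ h4))
      have h6 : 1 ≤ s.factorial * (B ^ B) ^ s := Nat.mul_pos (Nat.factorial_pos s) (by positivity)
      calc kap M 1 ^ k ≤ (s.factorial * (B ^ B) ^ s) ^ k := Nat.pow_le_pow_left h5 k
        _ ≤ (s.factorial * (B ^ B) ^ s) ^ (2 * k) := Nat.pow_le_pow_right h6 (by omega)
        _ ≤ n := hnum
  · push Not at hsmall
    have hKT : K ≤ Nat.card T := (le_max_left K K').trans hsmall.le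
    have hLP : ¬ LP p T := by
      rcases hcase with h | h
      · exact h
      · exact absurd h (not_le.2 ((le_max_right K K').trans_lt hsmall))
    have hB1 : 1 ≤ B ^ B := by
      rcases Nat.eq_zero_or_pos B with h | h
      · rw [h]; norm_num
      · exact Nat.one_le_pow _ _ h
    -- the elements `y_i`
    choose y hy1 hy2 using fun i => hK p T hp hTna hKT hLP ↥(Li π i) (perfect_Li hπ hk hT i)
      ⟨equivLi hπ hk hG hT i⟩
    -- the element `y`
    have hcomm : ∀ i j, i ≠ j → ∀ a ∈ Li π i, ∀ b ∈ Li π j, a * b = b * a :=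
      fun i j hij a ha b hb => Li_comm hk hij ha (Li_le π j hb)
    have hY : ∀ A : Finset (Fin s), ∃ Y : M, Y ∈ closure (Set.range fun i => ((y i : ↥(Li π i)) : M)) ∧
        (∀ i ∈ A, π Y i = π ((y i : ↥(Li π i)) : M) i) ∧ ∀ i, i ∉ A → π Y i = 1 := by
      intro A
      induction A using Finset.induction_on with
      | empty => exact ⟨1, one_mem _, fun i hi => absurd hi (Finset.notMem_empty i), fun i _ => by rw [map_one]; rfl⟩
      | insert j A hj ih =>
        obtain ⟨Y, hYc, hYA, hYn⟩ := ih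
        refine ⟨Y * ((y j : ↥(Li π j)) : M), mul_mem hYc (subset_closure ⟨j, rfl⟩), ?_, ?_⟩
        · intro i hi
          rw [map_mul, Pi.mul_apply]
          rcases Finset.mem_insert.1 hi with rfl | hi
          · rw [hYn _ hj, one_mul]
          · have hij : i ≠ j := fun h => hj (by rw [← h]; exact hi)
            rw [hYA i hi, Li_le π j (y j).2 i hij, mul_one]
        · intro i hi
          rw [Finset.mem_insert, not_or] at hi
          rw [map_mul, Pi.mul_apply, hYn i hi.2, one_mul]
          exact Li_le π j (y j).2 i hi.1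
    obtain ⟨Y, hYc, hYt, -⟩ := hY Finset.univ
    refine ⟨(Y : H), Y.2, ?_, ?_⟩
    · -- fixed vectors
      intro U hU hinv
      have hexp : ∀ (Z : AddSubgroup V) (x : Z), p • x = 0 := fun Z x => Subtype.ext (hpV x)
      obtain ⟨w, hw, hw0, hwy⟩ := exists_vec (V := V) (Li π) hcomm (fun i => ((y i : ↥(Li π i)) : M)) (fun i => (y i).2)
        (by
          intro i Z hZ hZne
          let _ := restr hZ
          have hZn : Nontrivial Z := by
            rw [← Finite.one_lt_card_iff_nontrivial]
            exact lt_of_lt_of_le (by norm_num) (two_le_card hZne)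
          obtain ⟨x, hx0, hx⟩ := hy1 i Z hZn (hexp Z)
          exact ⟨x, x.2, fun h => hx0 (Subtype.ext h), congrArg Subtype.val hx⟩)
        (U := U) (fun i l _ w hw => hinv l l.2 w hw) hU
      refine ⟨w, hw, hw0, ?_⟩
      have h1 : closure (Set.range fun i => ((y i : ↥(Li π i)) : M)) ≤ MulAction.stabilizer M w := by
        rw [closure_le]
        rintro _ ⟨i, rfl⟩
        exact hwy i
      exact h1 hYc
    · -- the bound
      set κ : Fin s → ℕ := fun i => Nat.card {a : MulAut T // a (π Y i) = π Y i} with hκ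
      have hκX : ∀ i, κ i ^ (2 * k) ≤ Nat.card (X i) := by
        intro i
        let _ := restr (hXi i)
        have hexp : ∀ x : X i, p • x = 0 := fun x => Subtype.ext (hpV x)
        have h1 := hy2 i (X i) hexp (by
          obtain ⟨l, hl, x, hx, hlx⟩ := hXn i
          exact ⟨⟨l, hl⟩, ⟨x, hx⟩, fun h => hlx (congrArg Subtype.val h)⟩)
        rw [card_fix_congr (equivLi hπ hk hG hT i)] at h1
        rw [hκ]
        have h2 : equivLi hπ hk hG hT i ((y i : ↥(Li π i)) : ↥(Li π i) ⧸ center ↥(Li π i)) = π Y i := by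
          rw [equivLi_mk, hYt i (Finset.mem_univ i)]
        rw [h2] at h1
        exact h1
      have hκn : ∀ i, κ i ^ (2 * k * 2 ^ (s - 1)) ≤ n := by
        intro i
        rw [pow_mul]
        exact (Nat.pow_le_pow_left (hκX i) _).trans (hXc i)
      have hprod : (∏ i, κ i) ^ (2 * k) ≤ n := by
        have h1 : ((∏ i, κ i) ^ (2 * k)) ^ 2 ^ (s - 1) ≤ n ^ 2 ^ (s - 1) := by
          rw [← pow_mul, ← Finset.prod_pow]
          refine (Finset.prod_le_prod' fun i _ => hκn i).trans ?_
          rw [Finset.prod_const, Finset.card_univ, Fintype.card_fin]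
          exact Nat.pow_le_pow_right hn0 (le_two_pow_pred hs)
        exact (Nat.pow_le_pow_iff_left (by positivity)).1 h1
      have hfac : s.factorial ^ (2 * k) ≤ n := by
        refine (Nat.pow_le_pow_left ?_ (2 * k)).trans hnum
        exact Nat.le_mul_of_pos_right _ (by positivity)
      have hkap : kap M (Y : H) ≤ s.factorial * ∏ i, κ i := by
        refine (kap_le Y.2 hG e).trans ?_
        exact card_fix_le hTna (π Y)
      have h1 : (kap M (Y : H) ^ k) ^ 2 ≤ n ^ 2 := by
        calc (kap M (Y : H) ^ k) ^ 2 = kap M (Y : H) ^ (2 * k) := by rw [← pow_mul, mul_comm]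
          _ ≤ (s.factorial * ∏ i, κ i) ^ (2 * k) := Nat.pow_le_pow_left hkap _
          _ = s.factorial ^ (2 * k) * (∏ i, κ i) ^ (2 * k) := mul_pow _ _ _
          _ ≤ n * n := Nat.mul_le_mul hfac hprod
          _ = n ^ 2 := (pow_two n).symm
      exact (Nat.pow_le_pow_iff_left (by norm_num)).1 h1

end Cfsg.Agent.H383.Kap
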