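import Mathlib

/-!
# Commuting perfect groups of automorphisms: the order of the module doubles its exponent (helper383, S5731 AF4)

* `Irr L U` : `U` is a minimal nonzero `L`-invariant subgroup;
* `comm_of_irr` : Schur's lemma and Wedderburn's theorem;
* `double` : `P`, `C` commute, `C` perfect and nontrivial on the irreducible `P C`-module `U`: `|U₁| ^ 2 ≤ |U|` for the
  irreducible `P`-submodules;
* `chain` : several commuting perfect groups.
-/

set_option autoImplicit false

open scoped commutatorElement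

namespace Cfsg.Agent.H383.Kap

open Subgroup

universe u v

section

variable {V : Type u} [AddCommGroup V] {H : Type v} [Group H] [DistribMulAction H V]

/-- `U` is invariant under `L` -/
def Inv (L : Subgroup H) (U : AddSubgroup V) : Prop := ∀ h ∈ L, ∀ w ∈ U, h • w ∈ U

/-- `U` is an irreducible `L`-module -/
structure Irr (L : Subgroup H) (U : AddSubgroup V) : Prop where
  ne : U ≠ ⊥
  inv : Inv L U
  min : ∀ U' : AddSubgroup V, U' ≤ U → Inv L U' → U' ≠ ⊥ → U' = U

theorem Inv.mono {L L' : Subgroup H} {U : AddSubgroup V} (h : Inv L U) (hle : L' ≤ L) : Inv L' U :=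
  fun a ha => h a (hle ha)

/-- the stabilizer of a subgroup -/
def St (H : Type v) [Group H] [DistribMulAction H V] (U : AddSubgroup V) : Subgroup H where
  carrier := {h | ∀ w, h • w ∈ U ↔ w ∈ U}
  one_mem' := by intro w; rw [one_smul]
  mul_mem' := by
    intro a b ha hb w
    rw [mul_smul, ha, hb]
  inv_mem' := by
    intro a ha w
    have h1 := ha (a⁻¹ • w)
    rw [smul_inv_smul] at h1
    exact h1.symm

theorem inv_iff {L : Subgroup H} {U : AddSubgroup V} : Inv L U ↔ L ≤ St H U := by
  constructor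
  · intro h a ha w
    constructor
    · intro hw
      have h1 := h a⁻¹ (L.inv_mem ha) _ hw
      rwa [inv_smul_smul] at h1
    · exact h a ha w
  · intro h a ha w hw
    exact (h ha w).2 hw

theorem Inv.sup {L L' : Subgroup H} {U : AddSubgroup V} (h : Inv L U) (h' : Inv L' U) : Inv (L ⊔ L') U := by
  rw [inv_iff] at h h' ⊢
  exact sup_le h h'

theorem exists_irr [Finite V] (L : Subgroup H) {U : AddSubgroup V} (hne : U ≠ ⊥) (hinv : Inv L U) :
    ∃ U' ≤ U, Irr L U' := by
  have key : ∀ (n : ℕ) (U : AddSubgroup V), Nat.card U = n → U ≠ ⊥ → Inv L U → ∃ U' ≤ U, Irr L U' := by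
    intro n
    induction n using Nat.strong_induction_on with
    | _ n ih =>
      intro U hn hne hinv
      by_cases h : ∀ U' : AddSubgroup V, U' ≤ U → Inv L U' → U' ≠ ⊥ → U' = U
      · exact ⟨U, le_rfl, hne, hinv, h⟩
      · push Not at h
        obtain ⟨U', hle, hinv', hne', hneq⟩ := h
        have hlt : Nat.card U' < n := by
          rw [← hn]
          refine lt_of_le_of_ne (AddSubgroup.card_le_of_le hle) fun h => hneq ?_
          exact AddSubgroup.eq_of_le_of_card_ge hle h.ge
        obtain ⟨U'', hle', hI⟩ := ih _ hlt U' rfl hne' hinv'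
        exact ⟨U'', hle'.trans hle, hI⟩
  exact key _ U rfl hne hinv

/-- **Schur and Wedderburn**: the automorphisms commuting with an irreducible group commute. -/
theorem comm_of_irr [Finite V] {P : Subgroup H} {U : AddSubgroup V} (hU : Irr P U) {c d : H}
    (hc : ∀ a ∈ P, a * c = c * a) (hd : ∀ a ∈ P, a * d = d * a) (hcU : ∀ w ∈ U, c • w ∈ U)
    (hdU : ∀ w ∈ U, d • w ∈ U) : ∀ w ∈ U, c • d • w = d • c • w := by
  classical
  let D : Subring (AddMonoid.End U) :=
    { carrier := {f | ∀ (l : H) (hl : l ∈ P) (u : U),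
        ((f ⟨l • (u : V), hU.inv l hl u u.2⟩ : U) : V) = l • ((f u : U) : V)}
      one_mem' := fun l hl u => rfl
      mul_mem' := by
        intro f g hf hg l hl u
        have h1 : (g ⟨l • (u : V), hU.inv l hl u u.2⟩ : U) = ⟨l • ((g u : U) : V), hU.inv l hl _ (g u).2⟩ :=
          Subtype.ext (hg l hl u)
        change ((f (g ⟨l • (u : V), hU.inv l hl u u.2⟩) : U) : V) = l • ((f (g u) : U) : V)
        rw [h1, hf l hl (g u)]
      zero_mem' := by
        intro l hl u
        change ((0 : U) : V) = l • ((0 : U) : V)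
        rw [AddSubgroup.coe_zero, smul_zero]
      add_mem' := by
        intro f g hf hg l hl u
        change ((f ⟨l • (u : V), hU.inv l hl u u.2⟩ + g ⟨l • (u : V), hU.inv l hl u u.2⟩ : U) : V) =
          l • ((f u + g u : U) : V)
        rw [AddSubgroup.coe_add, AddSubgroup.coe_add, hf l hl u, hg l hl u, smul_add]
      neg_mem' := by
        intro f hf l hl u
        change ((-(f ⟨l • (u : V), hU.inv l hl u u.2⟩) : U) : V) = l • ((-(f u) : U) : V)
        rw [AddSubgroup.coe_neg, AddSubgroup.coe_neg, hf l hl u, smul_neg] }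
  have hD : ∀ f : D, ∀ (l : H) (hl : l ∈ P) (u : U),
        (((f : AddMonoid.End U) ⟨l • (u : V), hU.inv l hl u u.2⟩ : U) : V) = l • (((f : AddMonoid.End U) u : U) : V) :=
    fun f => f.2
  -- a nonzero element is injective
  have hinj : ∀ f : D, ∀ u : U, u ≠ 0 → (f : AddMonoid.End U) u = 0 → f = 0 := by
    intro f u hu hfu
    let K : AddSubgroup V := ((f : AddMonoid.End U).ker).map U.subtype
    have hK : K = U := by
      refine hU.min K ?_ ?_ ?_
      · rintro _ ⟨x, -, rfl⟩
        exact x.2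
      · rintro l hl _ ⟨x, hx, rfl⟩
        refine ⟨⟨l • (x : V), hU.inv l hl x x.2⟩, ?_, rfl⟩
        have hx' : (f : AddMonoid.End U) x = 0 := hx
        change (f : AddMonoid.End U) ⟨l • (x : V), hU.inv l hl x x.2⟩ = 0
        apply Subtype.ext
        rw [hD f l hl x, hx', AddSubgroup.coe_zero, smul_zero]
      · intro h
        have h1 : (u : V) ∈ K := ⟨u, hfu, rfl⟩
        rw [h, AddSubgroup.mem_bot] at h1
        exact hu (Subtype.ext h1)
    apply Subtype.ext
    refine AddMonoidHom.ext fun x => ?_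
    have h1 : (x : V) ∈ K := by rw [hK]; exact x.2
    obtain ⟨x', hx', hxx⟩ := h1
    have h2 : x' = x := Subtype.ext hxx
    rw [← h2]
    exact hx'
  have hfin : Finite (AddMonoid.End U) :=
    Finite.of_injective (fun f : AddMonoid.End U => (f : U → U)) DFunLike.coe_injective
  obtain ⟨u0, hu0, hu0'⟩ : ∃ u0 ∈ U, u0 ≠ 0 := by
    by_contra hcon
    push Not at hcon
    exact hU.ne ((AddSubgroup.eq_bot_iff_forall U).2 hcon)
  have hnt : Nontrivial D := ⟨⟨0, 1, by
    intro h
    have h2 : (0 : AddMonoid.End U) = 1 := congrArg Subtype.val h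
    have h3 := DFunLike.congr_fun h2 ⟨u0, hu0⟩
    exact hu0' (congrArg Subtype.val h3).symm⟩⟩
  have hnz : NoZeroDivisors D := ⟨by
    intro a b hab
    by_contra hne
    rw [not_or] at hne
    have hb : ∃ y : U, (b : AddMonoid.End U) y ≠ 0 := by
      by_contra hcon
      push Not at hcon
      exact hne.2 (Subtype.ext (AddMonoidHom.ext hcon))
    obtain ⟨y, hy⟩ := hb
    have h4 : (a : AddMonoid.End U) ((b : AddMonoid.End U) y) = 0 := by
      have := congrArg (fun r : D => (r : AddMonoid.End U) y) hab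
      exact this
    exact hne.1 (hinj a _ hy h4)⟩
  have hdom : IsDomain D := NoZeroDivisors.to_isDomain D
  have hfield := Finite.isDomain_to_isField D
  -- the endomorphisms
  have mk : ∀ (c : H) (hc : ∀ a ∈ P, a * c = c * a) (hcU : ∀ w ∈ U, c • w ∈ U),
      ∃ f : D, ∀ u : U, (((f : AddMonoid.End U) u : U) : V) = c • (u : V) := by
    intro c hc hcU
    refine ⟨⟨{ toFun := fun u => ⟨c • (u : V), hcU u u.2⟩
               map_zero' := Subtype.ext (smul_zero c)
               map_add' := fun a b => Subtype.ext (smul_add c (a : V) (b : V)) }, ?_⟩, fun u => rfl⟩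
    intro l hl u
    change c • (l • (u : V)) = l • (c • (u : V))
    rw [smul_smul, smul_smul, hc l hl]
  obtain ⟨f, hf⟩ := mk c hc hcU
  obtain ⟨g, hg⟩ := mk d hd hdU
  intro w hw
  have h1 := hfield.mul_comm f g
  have h2 := congrArg (fun r : D => (((r : AddMonoid.End U) ⟨w, hw⟩ : U) : V)) h1
  have h3 : (((f : AddMonoid.End U) ((g : AddMonoid.End U) ⟨w, hw⟩) : U) : V) =
      (((g : AddMonoid.End U) ((f : AddMonoid.End U) ⟨w, hw⟩) : U) : V) := h2
  rw [hf, hg, hg, hf] at h3
  exact h3

/-- **Doubling.** -/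
theorem double [Finite V] {P C : Subgroup H} (hPC : ∀ a ∈ P, ∀ b ∈ C, a * b = b * a) (hC : ⁅C, C⁆ = C)
    {U U1 : AddSubgroup V} (hU : Irr (P ⊔ C) U) (h1 : Irr P U1) (hle : U1 ≤ U)
    (hnt : ∃ c ∈ C, ∃ u ∈ U, c • u ≠ u) :
    Nat.card U1 ^ 2 ≤ Nat.card U ∧ ∀ l ∈ P, (∀ u ∈ U1, l • u = u) → ∀ u ∈ U, l • u = u := by
  classical
  have hUC : Inv C U := hU.inv.mono le_sup_right
  constructor
  · by_cases h : Inv C U1
    · exfalso
      have h2 : U1 = U := hU.min U1 hle (h1.inv.sup h) h1.ne
      subst h2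
      -- `C` acts trivially
      let F : Subgroup H :=
        { carrier := {g | ∀ u ∈ U1, g • u = u}
          one_mem' := fun u _ => one_smul H u
          mul_mem' := by
            intro a b ha hb u hu
            rw [mul_smul, hb u hu, ha u hu]
          inv_mem' := by
            intro a ha u hu
            rw [inv_smul_eq_iff, ha u hu] }
      have h3 : ⁅C, C⁆ ≤ F := by
        rw [commutator_le]
        intro c hc d hd u hu
        have hmem : ∀ e ∈ C, ∀ w ∈ U1, e • w ∈ U1 := h
        have h4 := comm_of_irr h1 (fun a ha => hPC a ha c hc) (fun a ha => hPC a ha d hd) (hmem c hc) (hmem d hd)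
        rw [commutatorElement_def]
        have h5 : d⁻¹ • u ∈ U1 := hmem _ (C.inv_mem hd) u hu
        have h6 : c⁻¹ • (d⁻¹ • u) ∈ U1 := hmem _ (C.inv_mem hc) _ h5
        have h7 := h4 _ h6
        rw [mul_smul, mul_smul, mul_smul, h7, smul_inv_smul, smul_inv_smul]
      rw [hC] at h3
      obtain ⟨c, hc, u, hu, hcu⟩ := hnt
      exact hcu (h3 hc u hu)
    · unfold Inv at h
      push Not at h
      obtain ⟨c, hc, u0, hu0, hcu0⟩ := h
      -- `c U1`
      let U2 : AddSubgroup V := U1.map (DistribSMul.toAddMonoidHom V c)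
      have hmem2 : ∀ w, w ∈ U2 ↔ ∃ u ∈ U1, c • u = w := fun w => Iff.rfl
      have hinf : U1 ⊓ U2 = ⊥ := by
        by_contra hne
        have h3 : U1 ⊓ U2 = U1 := by
          refine h1.min _ inf_le_left ?_ hne
          rintro l hl w ⟨hw1, hw2⟩
          refine ⟨h1.inv l hl w hw1, ?_⟩
          obtain ⟨u, hu, rfl⟩ := (hmem2 w).1 hw2
          refine (hmem2 _).2 ⟨l • u, h1.inv l hl u hu, ?_⟩
          rw [smul_smul, smul_smul, hPC l hl c hc]
        have h4 : U1 ≤ U2 := by rw [← h3]; exact inf_le_right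
        have h5 : Nat.card U2 ≤ Nat.card U1 := by
          have h6 : Function.Surjective (fun u : U1 => (⟨c • (u : V), ⟨u, u.2, rfl⟩⟩ : U2)) := by
            rintro ⟨w, hw⟩
            obtain ⟨u, hu, rfl⟩ := (hmem2 w).1 hw
            exact ⟨⟨u, hu⟩, rfl⟩
          exact Nat.card_le_card_of_surjective _ h6
        have h6 : U1 = U2 := AddSubgroup.eq_of_le_of_card_ge h4 h5
        apply hcu0
        rw [h6]
        exact (hmem2 _).2 ⟨u0, hu0, rfl⟩
      have hinj : Function.Injective (fun q : U1 × U1 => (⟨(q.1 : V) + c • (q.2 : V),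
          U.add_mem (hle q.1.2) (hUC c hc _ (hle q.2.2))⟩ : U)) := by
        rintro ⟨a, b⟩ ⟨a', b'⟩ hab
        have h3 : (a : V) + c • (b : V) = a' + c • (b' : V) := congrArg Subtype.val hab
        have h4 : (a : V) - a' = c • ((b' : V) - b) := by
          rw [smul_sub, sub_eq_sub_iff_add_eq_add, h3, add_comm]
        have h5 : (a : V) - a' ∈ U1 ⊓ U2 := by
          refine ⟨U1.sub_mem a.2 a'.2, ?_⟩
          rw [h4]
          exact (hmem2 _).2 ⟨(b' : V) - b, U1.sub_mem b'.2 b.2, rfl⟩
        rw [hinf, AddSubgroup.mem_bot] at h5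
        have h6 : a = a' := Subtype.ext (sub_eq_zero.1 h5)
        rw [h5] at h4
        have h7 : (b' : V) - b = 0 := (smul_eq_zero_iff_eq c).1 h4.symm
        have h8 : b = b' := Subtype.ext (sub_eq_zero.1 h7).symm
        rw [h6, h8]
      have h3 := Nat.card_le_card_of_injective _ hinj
      rw [Nat.card_prod] at h3
      rw [pow_two]
      exact h3
  · intro l hl htriv
    let U2 : AddSubgroup V := AddSubgroup.closure {w | ∃ c ∈ C, ∃ u ∈ U1, w = c • u}
    have hfix : ∀ w ∈ U2, l • w = w := by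
      intro w hw
      induction hw using AddSubgroup.closure_induction with
      | mem w h =>
        obtain ⟨c, hc, u, hu, rfl⟩ := h
        rw [smul_smul, hPC l hl c hc, mul_smul, htriv u hu]
      | zero => exact smul_zero l
      | add x y _ _ hx hy => rw [smul_add, hx, hy]
      | neg x _ hx => rw [smul_neg, hx]
    have hinv : ∀ g : H, (∀ c ∈ C, ∀ u ∈ U1, g • (c • u) ∈ U2) → ∀ w ∈ U2, g • w ∈ U2 := by
      intro g hg w hw
      induction hw using AddSubgroup.closure_induction with
      | mem w h =>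
        obtain ⟨c, hc, u, hu, rfl⟩ := h
        exact hg c hc u hu
      | zero => rw [smul_zero]; exact U2.zero_mem
      | add x y _ _ hx hy => rw [smul_add]; exact U2.add_mem hx hy
      | neg x _ hx => rw [smul_neg]; exact U2.neg_mem hx
    have hsub : ∀ c ∈ C, ∀ u ∈ U1, c • u ∈ U2 := fun c hc u hu => AddSubgroup.subset_closure ⟨c, hc, u, hu, rfl⟩
    have h2 : U2 = U := by
      refine hU.min U2 ?_ ?_ ?_
      · refine (AddSubgroup.closure_le _).2 ?_
        rintro _ ⟨c, hc, u, hu, rfl⟩
        exact hUC c hc u (hle hu)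
      · refine Inv.sup ?_ ?_
        · intro g hg
          refine hinv g fun c hc u hu => ?_
          rw [smul_smul, hPC g hg c hc, mul_smul]
          exact hsub c hc _ (h1.inv g hg u hu)
        · intro g hg
          refine hinv g fun c hc u hu => ?_
          rw [smul_smul]
          exact hsub _ (C.mul_mem hg hc) u hu
      · intro h
        apply h1.ne
        rw [eq_bot_iff, ← h]
        intro u hu
        have := hsub 1 C.one_mem u hu
        rwa [one_smul] at this
    intro u hu
    rw [← h2] at hu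
    exact hfix u hu

/-- **Several commuting perfect groups.** -/
theorem chain [Finite V] {ι : Type*} (L : ι → Subgroup H)
    (hcomm : ∀ i j, i ≠ j → ∀ a ∈ L i, ∀ b ∈ L j, a * b = b * a) (hperf : ∀ i, ⁅L i, L i⁆ = L i) (i0 : ι)
    (A : Finset ι) (hA : i0 ∉ A) : ∀ U : AddSubgroup V, Irr (L i0 ⊔ ⨆ j ∈ A, L j) U →
    (∀ j, j = i0 ∨ j ∈ A → ∃ l ∈ L j, ∃ u ∈ U, l • u ≠ u) →
    ∃ X : AddSubgroup V, X ≤ U ∧ Irr (L i0) X ∧ (∃ l ∈ L i0, ∃ x ∈ X, l • x ≠ x) ∧
      Nat.card X ^ 2 ^ A.card ≤ Nat.card U := by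
  classical
  induction A using Finset.induction_on with
  | empty =>
    intro U hU hnt
    refine ⟨U, le_rfl, ?_, hnt i0 (Or.inl rfl), ?_⟩
    · have h1 : (L i0 ⊔ ⨆ j ∈ (∅ : Finset ι), L j) = L i0 := by simp
      rwa [h1] at hU
    · rw [Finset.card_empty, pow_zero, pow_one]
  | insert j A hj ih =>
    intro U hU hnt
    have hi0 : i0 ∉ A := fun h => hA (Finset.mem_insert_of_mem h)
    have hji : j ≠ i0 := fun h => hA (by rw [← h]; exact Finset.mem_insert_self _ _)
    set P : Subgroup H := L i0 ⊔ ⨆ j ∈ A, L j with hP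
    have h1 : (L i0 ⊔ ⨆ j' ∈ insert j A, L j') = P ⊔ L j := by
      rw [Finset.iSup_insert, hP, sup_assoc, sup_comm (L j)]
    rw [h1] at hU
    have hPC : ∀ a ∈ P, ∀ b ∈ L j, a * b = b * a := by
      have h2 : P ≤ centralizer (L j : Set H) := by
        rw [hP]
        refine sup_le ?_ (iSup₂_le fun j' hj' => ?_)
        · intro a ha
          rw [mem_centralizer_iff]
          intro b hb
          exact hcomm j i0 hji b hb a ha
        · intro a ha
          rw [mem_centralizer_iff]
          intro b hb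
          exact hcomm j j' (fun h => hj (by rw [h]; exact hj')) b hb a ha
      intro a ha b hb
      exact (mem_centralizer_iff.1 (h2 ha) b hb).symm
    obtain ⟨U1, hle, hU1⟩ := exists_irr P hU.ne (hU.inv.mono le_sup_left)
    obtain ⟨h2, h3⟩ := double hPC (hperf j) hU hU1 hle (hnt j (Or.inr (Finset.mem_insert_self _ _)))
    obtain ⟨X, hX1, hX2, hX3, hX4⟩ := ih hi0 U1 hU1 (by
      intro j' hj'
      have hj2 : j' = i0 ∨ j' ∈ insert j A := hj'.imp id Finset.mem_insert_of_mem
      obtain ⟨l, hl, u, hu, hlu⟩ := hnt j' hj2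
      have hlP : l ∈ P := by
        rcases hj' with rfl | hj'
        · exact (le_sup_left : L j' ≤ _) hl
        · exact (le_sup_right : (⨆ j ∈ A, L j) ≤ _) ((le_iSup₂ (f := fun j (_ : j ∈ A) => L j) j' hj') hl)
      by_contra hcon
      push Not at hcon
      exact hlu (h3 l hlP (fun u hu => hcon l hl u hu) u hu))
    refine ⟨X, hX1.trans hle, hX2, hX3, ?_⟩
    rw [Finset.card_insert_of_notMem hj, pow_succ, pow_mul]
    exact (Nat.pow_le_pow_left hX4 2).trans h2

end

end Cfsg.Agent.H383.Kap
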