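import Cfsg.Agent.H192.Af.Defs
import Cfsg.Agent.H383.Kap.Factors
import Cfsg.Agent.H383.Kap.Double

/-!
# `kap`, homogeneous modules, numerics (helper383, S5731 AF4)
-/

set_option autoImplicit false

open scoped commutatorElement

namespace Cfsg.Agent.H383.Kap

open Subgroup Cfsg.Agent.H192.Af Cfsg.Agent.H717.FieldOf

universe u v w

section kap

variable {H : Type v} [Group H] [Finite H] {M : Subgroup H} [M.Normal]

/-- the action of `H` on `M / Z(M)` -/
noncomputable def act (M : Subgroup H) [M.Normal] : H →* MulAut (M ⧸ center M) where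
  toFun h := QuotientGroup.congr (center M) (center M) (MulAut.conjNormal h)
    (characteristic_iff_map_eq.1 centerCharacteristic _)
  map_one' := by
    ext q
    obtain ⟨m, rfl⟩ := QuotientGroup.mk_surjective q
    change ((MulAut.conjNormal (1 : H) m : M) : M ⧸ center M) = (m : M ⧸ center M)
    rw [map_one]
    rfl
  map_mul' := by
    intro a b
    ext q
    obtain ⟨m, rfl⟩ := QuotientGroup.mk_surjective q
    change ((MulAut.conjNormal (a * b) m : M) : M ⧸ center M) =
      ((MulAut.conjNormal a (MulAut.conjNormal b m) : M) : M ⧸ center M)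
    rw [map_mul]
    rfl

theorem act_mk (h : H) (m : M) : act M h (m : M ⧸ center M) = ((MulAut.conjNormal h m : M) : M ⧸ center M) := rfl

/-- `M` perfect: the kernel of the action on `M / Z(M)` is `C_H(M)` -/
theorem ker_act (hM : commutator M = ⊤) : (act M).ker = centralizer (M : Set H) := by
  ext h
  rw [MonoidHom.mem_ker, mem_centralizer_iff]
  constructor
  · intro hh
    -- `h m h⁻¹ = m z`
    have h1 : ∀ m : M, ∃ z ∈ center M, MulAut.conjNormal h m = m * z := by
      intro m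
      have h2 : act M h (m : M ⧸ center M) = (m : M ⧸ center M) := by rw [hh]; rfl
      rw [act_mk] at h2
      exact ⟨m⁻¹ * MulAut.conjNormal h m, QuotientGroup.eq.1 h2.symm, by group⟩
    -- the fixed subgroup
    let F : Subgroup M :=
      { carrier := {m | MulAut.conjNormal h m = m}
        one_mem' := map_one _
        mul_mem' := by
          intro a b ha hb
          change MulAut.conjNormal h (a * b) = a * b
          rw [map_mul]
          have ha' : MulAut.conjNormal h a = a := ha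
          have hb' : MulAut.conjNormal h b = b := hb
          rw [ha', hb']
        inv_mem' := by
          intro a ha
          have ha' : MulAut.conjNormal h a = a := ha
          change MulAut.conjNormal h a⁻¹ = a⁻¹
          rw [map_inv, ha'] }
    have h3 : commutator M ≤ F := by
      rw [_root_.commutator_def, commutator_le]
      intro a _ b _
      obtain ⟨z, hz, hz1⟩ := h1 a
      obtain ⟨y, hy, hy1⟩ := h1 b
      change MulAut.conjNormal h ⁅a, b⁆ = ⁅a, b⁆
      rw [map_commutatorElement, hz1, hy1]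
      have hz' := mem_center_iff.1 hz
      have hy' := mem_center_iff.1 hy
      simp only [commutatorElement_def, mul_inv_rev]
      calc a * z * (b * y) * (z⁻¹ * a⁻¹) * (y⁻¹ * b⁻¹) = a * (z * (b * y)) * z⁻¹ * a⁻¹ * y⁻¹ * b⁻¹ := by group
        _ = a * ((b * y) * z) * z⁻¹ * a⁻¹ * y⁻¹ * b⁻¹ := by rw [← hz' (b * y)]
        _ = a * b * (y * a⁻¹) * y⁻¹ * b⁻¹ := by group
        _ = a * b * (a⁻¹ * y) * y⁻¹ * b⁻¹ := by rw [← hy' a⁻¹]
        _ = a * b * a⁻¹ * b⁻¹ := by group
    rw [hM] at h3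
    intro m hm
    have h4 : MulAut.conjNormal h (⟨m, hm⟩ : M) = ⟨m, hm⟩ := h3 (mem_top _)
    have h5 := congrArg Subtype.val h4
    rw [MulAut.conjNormal_apply] at h5
    have h6 : h * m * h⁻¹ = m := h5
    rw [mul_inv_eq_iff_eq_mul] at h6
    exact h6.symm
  · intro hh
    ext q
    obtain ⟨m, rfl⟩ := QuotientGroup.mk_surjective q
    change ((MulAut.conjNormal h m : M) : M ⧸ center M) = (m : M ⧸ center M)
    congr 1
    apply Subtype.ext
    rw [MulAut.conjNormal_apply, mul_inv_eq_iff_eq_mul]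
    exact (hh m m.2).symm

/-- **the bound for `kap`** -/
theorem kap_le {y : H} (hy : y ∈ M) (hM : commutator M = ⊤) {Q : Type w} [Group Q] (e : M ⧸ center M ≃* Q) :
    kap M y ≤ Nat.card {α : MulAut Q // α (e ((⟨y, hy⟩ : M) : M ⧸ center M)) = e ((⟨y, hy⟩ : M) : M ⧸ center M)} := by
  have hfQ : Finite Q := Finite.of_equiv _ e.toEquiv
  have hfA : Finite (MulAut Q) := Finite.of_injective (fun f : MulAut Q => (f : Q → Q)) DFunLike.coe_injective
  set f : sty M y →* MulAut (M ⧸ center M) := (act M).comp (sty M y).subtype with hf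
  have h1 : kap M y = Nat.card f.range := by
    unfold kap
    rw [relIndex, ← index_ker, ← ker_act hM]
    rfl
  rw [h1]
  -- the elements of the range fix `y`
  have h2 : ∀ g : f.range, (g : MulAut (M ⧸ center M)) ((⟨y, hy⟩ : M) : M ⧸ center M) = ((⟨y, hy⟩ : M) : M ⧸ center M) := by
    rintro ⟨_, ⟨⟨h, hh⟩, rfl⟩⟩
    change ((MulAut.conjNormal h (⟨y, hy⟩ : M) : M) : M ⧸ center M) = _
    symm
    rw [QuotientGroup.eq, mem_center_iff]
    intro m
    have h3 : h * y * h⁻¹ * y⁻¹ ∈ centralizer (M : Set H) := hh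
    have h4 : y⁻¹ * (h * y * h⁻¹) ∈ centralizer (M : Set H) := by
      have h5 : y⁻¹ * (h * y * h⁻¹) = y⁻¹ * (h * y * h⁻¹ * y⁻¹) * y⁻¹⁻¹ := by group
      rw [h5]
      exact (inferInstance : (centralizer (M : Set H)).Normal).conj_mem _ h3 y⁻¹
    exact Subtype.ext (mem_centralizer_iff.1 h4 m m.2)
  let c : MulAut (M ⧸ center M) ≃* MulAut Q := MulAut.congr e
  have hc : ∀ (a : MulAut (M ⧸ center M)) (q : M ⧸ center M), c a (e q) = e (a q) := by
    intro a q
    change e (a (e.symm (e q))) = e (a q)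
    rw [e.symm_apply_apply]
  let F : f.range → {α : MulAut Q // α (e ((⟨y, hy⟩ : M) : M ⧸ center M)) = e ((⟨y, hy⟩ : M) : M ⧸ center M)} :=
    fun g => ⟨c g, by rw [hc, h2]⟩
  have hF : Function.Injective F := by
    intro a b hab
    apply Subtype.ext
    exact c.injective (congrArg Subtype.val hab)
  exact Nat.card_le_card_of_injective F hF

theorem card_fix_congr {A : Type v} {B : Type w} [Group A] [Group B] (e : A ≃* B) (x : A) :
    Nat.card {α : MulAut A // α x = x} = Nat.card {β : MulAut B // β (e x) = e x} := by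
  refine Nat.card_congr ((MulAut.congr e).toEquiv.subtypeEquiv fun a => ?_)
  change a x = x ↔ e (a (e.symm (e x))) = e x
  rw [e.symm_apply_apply, e.injective.eq_iff]

end kap

section homog

variable {V : Type u} [AddCommGroup V] [Finite V] {H : Type v} [Group H] [DistribMulAction H V]

theorem KA_apply_mem {M : Subgroup H} {U : AddSubgroup V} (hU : ∀ h ∈ M, ∀ w ∈ U, h • w ∈ U) {r : AddMonoid.End V}
    (hr : r ∈ KA V M) : ∀ w ∈ U, r w ∈ U := by
  unfold KA at hr
  induction hr using Subring.closure_induction with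
  | mem x hx =>
    obtain ⟨m, hm, rfl⟩ := hx
    exact hU m hm
  | zero => intro w _; exact U.zero_mem
  | one => intro w hw; exact hw
  | add a b _ _ ha hb => intro w hw; exact U.add_mem (ha w hw) (hb w hw)
  | neg a _ ha => intro w hw; exact U.neg_mem (ha w hw)
  | mul a b _ _ ha hb => intro w hw; exact ha _ (hb w hw)

/-- `V` homogeneous for `M`: an element of `M` trivial on an irreducible submodule is trivial on `V` -/
theorem trivial_of_homog {M : Subgroup H} (hM : Homog V M) {W : AddSubgroup V} (hne : W ≠ ⊥)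
    (hinv : ∀ h ∈ M, ∀ w ∈ W, h • w ∈ W)
    (hmin : ∀ U : AddSubgroup V, U ≤ W → (∀ h ∈ M, ∀ w ∈ U, h • w ∈ U) → U ≠ ⊥ → U = W) {l : H} (hl : l ∈ M)
    (h : ∀ w ∈ W, l • w = w) (x : V) : l • x = x := by
  obtain ⟨hss, hiso⟩ := hM
  let W' : Submodule (KA V M) V :=
    { W with smul_mem' := fun r w hw => KA_apply_mem hinv r.2 w hw }
  have hWmem : ∀ w, w ∈ W' ↔ w ∈ W := fun _ => Iff.rfl
  have hsub : ∀ S : Submodule (KA V M) V, ∀ h ∈ M, ∀ w ∈ S, h • w ∈ S := by
    intro S h hh w hw
    exact S.smul_mem (⟨dl V h, dl_mem M hh⟩ : KA V M) hw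
  have hW' : IsSimpleModule (KA V M) W' := by
    rw [isSimpleModule_iff_isAtom]
    refine ⟨?_, ?_⟩
    · intro hb
      apply hne
      rw [eq_bot_iff]
      intro w hw
      have h1 : w ∈ W' := hw
      rw [hb] at h1
      exact h1
    · intro S hS
      by_contra hSb
      have h1 := hmin S.toAddSubgroup (fun w hw => hS.le hw) (fun h hh w hw => hsub S h hh w hw) (by
        intro hb
        apply hSb
        rw [eq_bot_iff]
        intro w hw
        have h2 : w ∈ S.toAddSubgroup := hw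
        rw [hb] at h2
        exact h2)
      apply hS.ne
      ext w
      rw [hWmem, ← h1]
      rfl
  have key : ∀ S : Submodule (KA V M) V, IsSimpleModule (KA V M) S → ∀ w ∈ S, l • w = w := by
    intro S hS w hw
    obtain ⟨f⟩ := hiso W' S
    have h1 : (⟨dl V l, dl_mem M hl⟩ : KA V M) • (⟨w, hw⟩ : S) = ⟨w, hw⟩ := by
      apply f.injective
      rw [map_smul]
      apply Subtype.ext
      exact h _ (f ⟨w, hw⟩).2
    exact congrArg Subtype.val h1
  have htop := IsSemisimpleModule.sSup_simples_eq_top (KA V M) V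
  have hx : x ∈ sSup { m : Submodule (KA V M) V | IsSimpleModule (KA V M) m } := by
    rw [htop]
    exact Submodule.mem_top
  rw [sSup_eq_iSup'] at hx
  exact Submodule.iSup_induction _ (motive := fun x => l • x = x) hx (fun i y hy => key i.1 i.2 y hy) (smul_zero l)
    (fun y z hy hz => by rw [smul_add, hy, hz])

end homog

section num

/-- `c s ^ 2 ≤ 2 ^ (s - 1)` for large `s` -/
theorem exists_sq_le (c : ℕ) : ∃ s0 : ℕ, ∀ s, s0 ≤ s → c * s ^ 2 ≤ 2 ^ (s - 1) := by
  have h := (isLittleO_pow_const_const_pow_of_one_lt (R := ℝ) 2 (by norm_num : (1 : ℝ) < 2)).bound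
    (show (0 : ℝ) < 1 / (2 * (c + 1)) by positivity)
  rw [Filter.eventually_atTop] at h
  obtain ⟨s0, hs0⟩ := h
  refine ⟨s0 + 1, fun s hs => ?_⟩
  have h1 := hs0 s (by omega)
  rw [Real.norm_of_nonneg (by positivity), Real.norm_of_nonneg (by positivity)] at h1
  have h2 : ((c : ℝ) + 1) * (s : ℝ) ^ 2 ≤ 2 ^ s / 2 := by
    have h3 : (0 : ℝ) < (c : ℝ) + 1 := by positivity
    calc ((c : ℝ) + 1) * (s : ℝ) ^ 2 ≤ ((c : ℝ) + 1) * (1 / (2 * (c + 1)) * 2 ^ s) :=
          mul_le_mul_of_nonneg_left h1 h3.le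
      _ = 2 ^ s / 2 := by field_simp
  have h3 : ((c * s ^ 2 : ℕ) : ℝ) ≤ ((2 ^ (s - 1) : ℕ) : ℝ) := by
    obtain ⟨j, rfl⟩ : ∃ j, s = j + 1 := ⟨s - 1, by omega⟩
    rw [Nat.add_sub_cancel]
    push_cast at h2 ⊢
    have h4 : (2 : ℝ) ^ (j + 1) / 2 = 2 ^ j := by rw [pow_succ]; ring
    rw [h4] at h2
    nlinarith [sq_nonneg ((j : ℝ) + 1)]
  exact_mod_cast h3

theorem exists_num (k C : ℕ) : ∃ N : ℕ, ∀ s n : ℕ, 0 < s → N ≤ n → 2 ^ 2 ^ (s - 1) ≤ n →
    (s.factorial * C ^ s) ^ k ≤ n := by
  obtain ⟨s0, hs0⟩ := exists_sq_le (C * k)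
  refine ⟨∑ s ∈ Finset.range s0, (s.factorial * C ^ s) ^ k, fun s n hs hn h2 => ?_⟩
  by_cases h : s < s0
  · exact (Finset.single_le_sum (f := fun s => (s.factorial * C ^ s) ^ k) (fun _ _ => Nat.zero_le _)
      (Finset.mem_range.2 h)).trans hn
  · push Not at h
    refine le_trans ?_ h2
    have h3 : s.factorial * C ^ s ≤ (s * C) ^ s := by
      rw [mul_pow]
      exact Nat.mul_le_mul_right _ (Nat.factorial_le_pow s)
    have h4 : (s * C) ≤ 2 ^ (s * C) := Nat.lt_two_pow_self.le
    calc (s.factorial * C ^ s) ^ k ≤ ((s * C) ^ s) ^ k := Nat.pow_le_pow_left h3 k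
      _ ≤ ((2 ^ (s * C)) ^ s) ^ k := Nat.pow_le_pow_left (Nat.pow_le_pow_left h4 s) k
      _ = 2 ^ (C * k * s ^ 2) := by rw [← pow_mul, ← pow_mul]; ring_nf
      _ ≤ 2 ^ 2 ^ (s - 1) := Nat.pow_le_pow_right (by norm_num) (hs0 s h)

theorem le_two_pow_pred {s : ℕ} (hs : 0 < s) : s ≤ 2 ^ (s - 1) := by
  obtain ⟨j, rfl⟩ : ∃ j, s = j + 1 := ⟨s - 1, by omega⟩
  rw [Nat.add_sub_cancel]
  exact Nat.lt_two_pow_self

end num

end Cfsg.Agent.H383.Kap
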